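import Cfsg.Agent.H274.EP.Ineq
import Cfsg.Agent.H969.TT.Principal

/-!
# Linear characters of `U` in the constituents of `1_B^Y` (helper274, S4929)

`lm_eq_sum` : `χ` a constituent of `1_B^Y`, `ψ` a linear character of `U`:
`⟨χ_U, ψ⟩ = ∑ K ⊆ supp ψ, (-1) ^ |K| ⟨χ, 1_{P_K}^Y⟩`.
-/

set_option autoImplicit false
set_option linter.unusedSectionVars false

namespace Cfsg.Agent.H274.EP

open Cfsg CoxeterSystem Cfsg.Agent.ChevalleyStructure.CoxeterGeom Cfsg.Agent.Tits.Roots Cfsg.Agent.Tits.Core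
  Cfsg.Agent.Tits.Exchange Cfsg.Agent.Nodes.Comb
  Cfsg.Agent.Nodes.Reps Cfsg.Agent.Nodes.BNOf Cfsg.Agent.Nodes.OppDec Cfsg.Agent.Nodes.Bruhat
  Cfsg.Agent.Nodes.LeviDec Cfsg.Agent.Nodes.StabComb Cfsg.Agent.Nodes.RGDLib Cfsg.Agent.Nodes.SubComb
  Cfsg.Agent.Nodes.Sub Cfsg.Agent.Nodes.ClsSub Cfsg.Agent.Omega.EH3.Kf.Lev
  Cfsg.Agent.H167.SteinbergRGD Cfsg.Agent.H167.AltRGD
  Cfsg.Agent.H969.TT.Count Cfsg.Agent.H969.TT.TopAbs Cfsg.Agent.H969.TT.TopRGD Cfsg.Agent.H969.TT.QuotAct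
  Cfsg.Agent.H969.TT.Levi Cfsg.Agent.H969.TT.Principal Cfsg.Agent.Characters.Core

open scoped ComplexConjugate

universe u

/-! ### Permutation characters -/

section perm

variable {Y : Type u} [Group Y] [Finite Y]

theorem ps_cosets (B : Subgroup Y) [Fintype B] : PS B (Y ⧸ B) := by
  intro f hf
  funext x
  obtain ⟨g, rfl⟩ := QuotientGroup.mk_surjective x
  have h1 := hf g (QuotientGroup.mk 1)
  have h2 : ∀ b : B, f (g • (b : Y) • (QuotientGroup.mk 1 : Y ⧸ B)) = f (QuotientGroup.mk g) := by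
    intro b
    congr 1
    change (QuotientGroup.mk (g * ((b : Y) * 1)) : Y ⧸ B) = QuotientGroup.mk g
    rw [eq_comm, QuotientGroup.eq, mul_one, inv_mul_cancel_left]
    exact b.2
  rw [Finset.sum_congr rfl fun b _ => h2 b, Finset.sum_const, Finset.card_univ, nsmul_eq_mul, mul_eq_zero] at h1
  refine h1.resolve_left ?_
  rw [← Nat.card_eq_fintype_card]
  exact card_ne_zero_complex

theorem lm_perm {Ω : Type*} [Finite Ω] [MulAction Y Ω] (U : Subgroup Y) [Fintype U] (ψ : U →* ℂˣ) :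
    lm ψ (fun u : U => (Nat.card (MulAction.fixedBy Ω (u : Y)) : ℂ)) = (mult Ω ψ.ker : ℂ) := by
  have : Fintype Ω := Fintype.ofFinite _
  have h1 := sum_char (U := U) (Ω := Ω) ψ
  rw [lm]
  have h2 : ∑ u : U, ((ψ u⁻¹ : ℂˣ) : ℂ) * (Nat.card (MulAction.fixedBy Ω (u : Y)) : ℂ) =
      ∑ u : U, ((ψ u⁻¹ : ℂˣ) : ℂ) * (Nat.card (MulAction.fixedBy Ω u) : ℂ) := rfl
  rw [h2, h1, inv_mul_cancel_left₀ card_ne_zero_complex]

theorem fd_perm {Ω : Type*} [Finite Ω] [MulAction Y Ω] (P : Subgroup Y) :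
    fd P (fun y : Y => (Nat.card (MulAction.fixedBy Ω y) : ℂ)) = (nOrb P Ω : ℂ) := by
  have : Fintype P := Fintype.ofFinite _
  have h1 := lm_perm (Ω := Ω) P 1
  rw [MonoidHom.ker_one, mult_top] at h1
  rw [nOrb, ← h1, lm, fd_eq]
  congr 1
  refine Finset.sum_congr rfl fun u _ => ?_
  rw [MonoidHom.one_apply, Units.val_one, one_mul]

/-- a constituent of `1_B^Y` -/
theorem coeff_ne_zero [Fintype (IrrCharacter Y)] (B : Subgroup Y) {b : IrrCharacter Y → ℕ}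
    (hβ : (fun y : Y => (Nat.card (MulAction.fixedBy (Y ⧸ B) y) : ℂ)) = ∑ χ : IrrCharacter Y, b χ • (χ : Y → ℂ))
    {χ : IrrCharacter Y} (hB : ∑ᶠ x : B, (χ : Y → ℂ) x ≠ 0) : b χ ≠ 0 := by
  intro h2
  have : Fintype Y := Fintype.ofFinite _
  have : Fintype B := Fintype.ofFinite _
  apply hB
  rw [finsum_eq_sum_of_fintype]
  have h3 := classInner_sum_nsmul_irr b χ
  rw [← hβ, h2, Nat.cast_zero, classInner_def, mul_eq_zero] at h3
  have h4 := h3.resolve_left (inv_ne_zero card_ne_zero_complex)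
  have h5 := congrArg conj h4
  rw [map_sum, map_zero] at h5
  have h6 : ∑ y : Y, (χ : Y → ℂ) y * (Nat.card (MulAction.fixedBy (Y ⧸ B) y) : ℂ) = 0 := by
    rw [← h5]
    refine Finset.sum_congr rfl fun y _ => ?_
    rw [map_mul, Complex.conj_conj, Complex.conj_natCast, mul_comm]
  rw [frob B (isIrr_isClassFunction χ.2), mul_eq_zero] at h6
  refine h6.resolve_left ?_
  exact_mod_cast Subgroup.index_ne_zero_of_finite

end perm

variable {I W : Type*} {Y : Type u} [Fintype I] [DecidableEq I] [Group W] [Group Y] {M : CoxeterMatrix I}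
  {cs : CoxeterSystem M W} {A : I → I → ℤ} {h : IsCartan M A} {p : ℕ} {T : Subgroup Y} {n : I → Y}
  {X : (I → ℤ) → Subgroup Y}

/-! ### Supports -/

open Classical in
/-- the simple roots on whose root groups `ψ` is not trivial -/
noncomputable def sp (cs : CoxeterSystem M W) (h : IsCartan M A) (X : (I → ℤ) → Subgroup Y)
    (ψ : ↥(RGD.Sup X (RGD.Pos cs h)) →* ℂˣ) : Finset I :=
  Finset.univ.filter fun i => ∃ u : ↥(RGD.Sup X (RGD.Pos cs h)), (u : Y) ∈ X (sr i) ∧ ψ u ≠ 1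

theorem mem_sp {ψ : ↥(RGD.Sup X (RGD.Pos cs h)) →* ℂˣ} {i : I} :
    i ∈ sp cs h X ψ ↔ ∃ u : ↥(RGD.Sup X (RGD.Pos cs h)), (u : Y) ∈ X (sr i) ∧ ψ u ≠ 1 := by
  classical
  simp [sp]

/-- `ψ` is trivial on the non-simple root groups. -/
theorem triv_of_nonsimple (hC : CommGen cs h X) (ψ : ↥(RGD.Sup X (RGD.Pos cs h)) →* ℂˣ) {r : I → ℤ}
    (hr : IsRoot cs h r) (h0 : 0 ≤ r) (hns : ∀ i, r ≠ sr i) {u : ↥(RGD.Sup X (RGD.Pos cs h))} (hu : (u : Y) ∈ X r) :
    ψ u = 1 := by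
  have h1 := hC r hr h0 hns hu
  have h2 : ⁅RGD.Sup X (RGD.Pos cs h), RGD.Sup X (RGD.Pos cs h)⁆ =
      Subgroup.map (RGD.Sup X (RGD.Pos cs h)).subtype ⁅(⊤ : Subgroup ↥(RGD.Sup X (RGD.Pos cs h))), ⊤⁆ := by
    rw [Subgroup.map_commutator, ← MonoidHom.range_eq_map, Subgroup.range_subtype]
  rw [h2] at h1
  obtain ⟨v, hv, hvu⟩ := h1
  have h3 : v = u := Subtype.ext hvu
  rw [← h3]
  exact Abelianization.commutator_subset_ker ψ hv

theorem triv_VJ (hC : CommGen cs h X) (ψ : ↥(RGD.Sup X (RGD.Pos cs h)) →* ℂˣ)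
    {u : ↥(RGD.Sup X (RGD.Pos cs h))} (hu : (u : Y) ∈ VJ cs h X (sp cs h X ψ : Set I)) : ψ u = 1 := by
  have h1 : VJ cs h X (sp cs h X ψ : Set I) ≤ ψ.ker.map (RGD.Sup X (RGD.Pos cs h)).subtype := by
    refine RGD.Sup_le fun x hx a ha => ?_
    have haU : a ∈ RGD.Sup X (RGD.Pos cs h) := RGD.le_Sup (S := RGD.Pos cs h) ⟨hx.1, hx.2.1⟩ ha
    refine ⟨⟨a, haU⟩, ?_, rfl⟩
    change ψ ⟨a, haU⟩ = 1
    by_cases hs : ∃ i, x = sr i
    · obtain ⟨i, rfl⟩ := hs
      obtain ⟨k, hk, hk0⟩ := hx.2.2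
      have hki : k = i := by
        by_contra hne
        rw [sr_ne hne] at hk0
        exact lt_irrefl _ hk0
      subst hki
      by_contra hcon
      exact hk (Finset.mem_coe.2 (mem_sp.2 ⟨⟨a, haU⟩, ha, hcon⟩))
    · push Not at hs
      exact triv_of_nonsimple hC ψ hx.1 hx.2.1 hs ha
  obtain ⟨v, hv, hvu⟩ := h1 hu
  have h3 : v = u := Subtype.ext hvu
  rw [← h3]
  exact hv

/-! ### The formula -/

/-- **(★)** for the constituents of `1_B^Y`. -/
theorem lm_eq_sum [Finite W] [Finite Y] [Fintype ↥(RGD.Sup X (RGD.Pos cs h))] (R : RGD cs h p T n X) (hG : GG cs h T X = ⊤)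
    (hC : CommGen cs h X) (χ : IrrCharacter Y) (hB : ∑ᶠ b : ↥(RGD.B cs h T X), (χ : Y → ℂ) b ≠ 0)
    (ψ : ↥(RGD.Sup X (RGD.Pos cs h)) →* ℂˣ) :
    lm ψ (fun u : ↥(RGD.Sup X (RGD.Pos cs h)) => (χ : Y → ℂ) u) =
      ∑ K ∈ (sp cs h X ψ).powerset, (-1 : ℂ) ^ K.card * fd (PK cs h T n X K) (χ : Y → ℂ) := by
  classical
  have : Fintype Y := Fintype.ofFinite Y
  have : Fintype ↥(RGD.B cs h T X) := Fintype.ofFinite _
  let _ : Fintype (IrrCharacter Y) := @Fintype.ofFinite _ finite_irr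
  set J := sp cs h X ψ with hJ
  let f : {i // i ∈ J} ↪ I := Function.Embedding.subtype _
  have hrange : Set.range f = (J : Set I) := Subtype.range_coe
  let cs' := (leviMatrix f M).toCoxeterSystem
  have : Finite (leviMatrix f M).Group := (levi_subSys (cs := cs) (h := h) f).finite cs' (levi_isCartan f h)
  have hψ0 : ∀ u : ↥(RGD.Sup X (RGD.Pos cs h)), (u : Y) ∈ VJ cs h X (Set.range f) → ψ u = 1 := fun u hu =>
    triv_VJ hC ψ (by rw [← hJ, ← hrange]; exact hu)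
  have hψ1 : ∀ j, ∃ u : ↥(RGD.Sup X (RGD.Pos cs h)), (u : Y) ∈ X (sr (f j)) ∧ ψ u ≠ 1 := fun j => mem_sp.1 j.2
  have key := mult_levi f cs' R hG (ps_cosets (RGD.B cs h T X)) ψ hψ0 hψ1
  -- the Levi subgroup
  set L := LJ cs h T X (Set.range f) with hL
  set V := VJ cs h X (Set.range f) with hV
  have hLV : ∀ x ∈ L, x ∈ V → x = 1 := by
    intro x hx hxV
    have h1 : x ∈ L ⊓ V := ⟨hx, hxV⟩
    rw [hL, hV, LJ_inf_VJ R] at h1
    exact h1
  set R' := rgd' f cs' R with hR'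
  set U' := RGD.Sup (X' cs h T X f) (RGD.Pos cs' (levi_isCartan f h)) with hU'
  set B' := RGD.B cs' (levi_isCartan f h) (T' cs h T X f) (X' cs h T X f) with hB'
  have : Fintype U' := Fintype.ofFinite _
  have hUU : ∀ u ∈ U', ((u : L) : Y) ∈ UJ cs h X (Set.range f) := by
    intro u hu
    rw [← map_U' (T := T) f cs']
    exact ⟨u, hu, rfl⟩
  have hUU' : ∀ u ∈ U', ((u : L) : Y) ∈ RGD.Sup X (RGD.Pos cs h) := fun u hu => UJ_le_U _ (hUU u hu)
  have hU : ∀ g, g ∈ RGD.Sup X (RGD.Pos cs h) ↔ ∃ l ∈ U', ∃ v ∈ V, g = (l : Y) * v := by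
    intro g
    constructor
    · intro hg
      obtain ⟨u, hu, v, hv, e⟩ := (mem_U_iff R (J := Set.range f)).1 hg
      rw [← map_U' (T := T) f cs'] at hu
      obtain ⟨u', hu', rfl⟩ := hu
      exact ⟨u', hu', v, hv, e⟩
    · rintro ⟨l, hl, v, hv, rfl⟩
      exact mul_mem (hUU' l hl) (VJ_le_U _ hv)
  let ψ' : ↥U' →* ℂˣ := ψ.comp
    { toFun := fun u => ⟨((u : L) : Y), hUU' u u.2⟩
      map_one' := rfl
      map_mul' := fun _ _ => rfl }
  obtain ⟨hirr, hval⟩ := exists_char_alt R' (gen_of_GG R' (GG'_eq_top f cs'))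
  have hUT : ∀ x ∈ U', x ∈ T' cs h T X f → x = 1 := by
    intro x hx hxT
    have h1 : x ∈ U' ⊓ T' cs h T X f := ⟨hx, hxT⟩
    rw [hU', U_inf_T R'] at h1
    exact h1
  have hU1 : ∀ u : ↥U', u ≠ 1 → Nat.card {v : ↥U' // (v : L)⁻¹ * u * v ∈ T' cs h T X f} = 0 := by
    intro u hu
    rw [Nat.card_eq_zero]
    left
    refine ⟨fun v => hu ?_⟩
    have h1 := hUT _ (mul_mem (mul_mem (inv_mem v.1.2) u.2) v.1.2) v.2
    have h2 : (u : L) = 1 := by
      have h3 : (u : L) = v.1 * ((v.1 : L)⁻¹ * u * v.1) * (v.1 : L)⁻¹ := by group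
      rw [h3, h1]; group
    exact Subtype.ext h2
  have h11 : Nat.card {v : ↥U' // (v : L)⁻¹ * (1 : L) * v ∈ T' cs h T X f} = Nat.card ↥U' := by
    refine Nat.card_congr (Equiv.subtypeUnivEquiv fun v => ?_)
    rw [mul_one, inv_mul_cancel]
    exact one_mem _
  have hcast : ∀ k : ℕ, (((-1 : ℝ) ^ k : ℝ) : ℂ) = (-1 : ℂ) ^ k := fun k => by push_cast; rfl
  -- the inequality
  have ineq : ∀ θ : IrrCharacter Y, ∃ a b : ℕ, lm ψ (fun u : ↥(RGD.Sup X (RGD.Pos cs h)) => (θ : Y → ℂ) u) = a ∧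
      ∑ K ∈ (Finset.univ : Finset {i // i ∈ J}).powerset, (-1 : ℂ) ^ K.card *
        fd (RGD.B cs h T X ⊔ Subgroup.closure (n '' (f '' (K : Set {i // i ∈ J})))) (θ : Y → ℂ) = b ∧ b ≤ a := by
    intro θ
    have := le_lm (conj_V R (Set.range f)) hLV hU (Finset.univ : Finset {i // i ∈ J}).powerset
      (fun K => (-1 : ℝ) ^ K.card) (fun K => B' ⊔ Subgroup.closure (n' R f '' (K : Set {i // i ∈ J})))
      (fun K => RGD.B cs h T X ⊔ Subgroup.closure (n '' (f '' (K : Set {i // i ∈ J}))))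
      (fun K g => mem_P_iff f cs' R _) (by
        have e : (fun g : L => ∑ K ∈ (Finset.univ : Finset {i // i ∈ J}).powerset, (((-1 : ℝ) ^ K.card : ℝ) : ℂ) *
            fixedPointCharacter (B' ⊔ Subgroup.closure (n' R f '' (K : Set {i // i ∈ J}))) g) =
            fun g : L => ∑ K ∈ (Finset.univ : Finset {i // i ∈ J}).powerset, (-1 : ℂ) ^ K.card *
            fixedPointCharacter (B' ⊔ Subgroup.closure (n' R f '' (K : Set {i // i ∈ J}))) g := by
          funext g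
          exact Finset.sum_congr rfl fun K _ => by rw [hcast]
        rw [e]
        exact hirr) ψ ψ' hψ0 (fun u' u e => by
          change ψ _ = ψ u
          congr 1
          exact Subtype.ext e) (by
        rw [lm, Finset.sum_eq_single 1]
        · rw [inv_one, map_one, Units.val_one, one_mul]
          simp only [hcast]
          rw [Subgroup.coe_one, hval 1 (one_mem _), h11, inv_mul_cancel₀ card_ne_zero_complex]
        · intro u _ hu
          simp only [hcast]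
          rw [hval u (RGD.U_le_B u.2), hU1 u hu, Nat.cast_zero, mul_zero]
        · intro h1
          exact absurd (Finset.mem_univ _) h1) (isIrr_isCharacter θ.2)
    simp only [hcast] at this
    exact this
  choose a b ha hb hab using ineq
  -- the total equality
  obtain ⟨m, hm⟩ := exists_nat_comb (isCharacter_perm (Y := Y) (Ω := Y ⧸ RGD.B cs h T X))
  have hm' : (fun y : Y => (Nat.card (MulAction.fixedBy (Y ⧸ RGD.B cs h T X) y) : ℂ)) =
      fun y => ∑ θ : IrrCharacter Y, (m θ : ℂ) * (θ : Y → ℂ) y := by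
    rw [hm]
    funext u
    rw [Finset.sum_apply]
    refine Finset.sum_congr rfl fun θ _ => ?_
    rw [Pi.smul_apply, nsmul_eq_mul]
  rw [← lm_perm] at key
  have e1 : lm ψ (fun u : ↥(RGD.Sup X (RGD.Pos cs h)) => (Nat.card (MulAction.fixedBy (Y ⧸ RGD.B cs h T X) (u : Y)) : ℂ)) =
      ∑ θ : IrrCharacter Y, (m θ : ℂ) * a θ := by
    have e2 : (fun u : ↥(RGD.Sup X (RGD.Pos cs h)) => (Nat.card (MulAction.fixedBy (Y ⧸ RGD.B cs h T X) (u : Y)) : ℂ)) =
        fun u : ↥(RGD.Sup X (RGD.Pos cs h)) => ∑ θ : IrrCharacter Y, (m θ : ℂ) * (θ : Y → ℂ) (u : Y) := by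
      funext u
      exact congrFun hm' (u : Y)
    rw [e2, lm_sum ψ Finset.univ (fun θ => (m θ : ℂ)) fun (θ : IrrCharacter Y) (u : ↥(RGD.Sup X (RGD.Pos cs h))) =>
      (θ : Y → ℂ) (u : Y)]
    exact Finset.sum_congr rfl fun θ _ => by rw [ha]
  have e3 : ∑ K ∈ (Finset.univ : Finset {i // i ∈ J}).powerset, (-1 : ℂ) ^ K.card *
      (nOrb (RGD.B cs h T X ⊔ Subgroup.closure (n '' (f '' (K : Set {i // i ∈ J})))) (Y ⧸ RGD.B cs h T X) : ℂ) =
      ∑ θ : IrrCharacter Y, (m θ : ℂ) * b θ := by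
    have e4 : ∀ K : Finset {i // i ∈ J}, (nOrb (RGD.B cs h T X ⊔ Subgroup.closure (n '' (f '' (K : Set {i // i ∈ J}))))
        (Y ⧸ RGD.B cs h T X) : ℂ) = ∑ θ : IrrCharacter Y, (m θ : ℂ) *
          fd (RGD.B cs h T X ⊔ Subgroup.closure (n '' (f '' (K : Set {i // i ∈ J})))) (θ : Y → ℂ) := by
      intro K
      rw [← fd_perm, hm', fd_sum _ Finset.univ (fun θ => (m θ : ℂ)) fun (θ : IrrCharacter Y) => (θ : Y → ℂ)]
    simp only [e4, Finset.mul_sum]
    rw [Finset.sum_comm]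
    refine Finset.sum_congr rfl fun θ _ => ?_
    rw [← hb, Finset.mul_sum]
    exact Finset.sum_congr rfl fun K _ => by ring
  rw [e1, e3] at key
  have key' : ∑ θ, m θ * b θ = ∑ θ, m θ * a θ := by exact_mod_cast key.symm
  have h5 := (Finset.sum_eq_sum_iff_of_le (fun θ _ => Nat.mul_le_mul_left (m θ) (hab θ))).1 key' χ (Finset.mem_univ χ)
  have h6 : b χ = a χ := Nat.eq_of_mul_eq_mul_left (Nat.pos_of_ne_zero (coeff_ne_zero _ hm hB)) h5
  rw [ha, ← h6, ← hb]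
  refine Finset.sum_bij (fun K _ => K.map f) ?_ ?_ ?_ ?_
  · intro K _
    rw [Finset.mem_powerset]
    intro i hi
    obtain ⟨j, -, rfl⟩ := Finset.mem_map.1 hi
    exact j.2
  · intro K _ K' _ he
    exact Finset.map_injective f he
  · intro K hK
    refine ⟨K.subtype (· ∈ J), Finset.mem_powerset.2 (Finset.subset_univ _), ?_⟩
    exact Finset.subtype_map_of_mem (Finset.mem_powerset.1 hK)
  · intro K _
    rw [Finset.card_map, PK, Finset.coe_map]

end Cfsg.Agent.H274.EP
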