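import Cfsg.Agent.H274.EP.Key
import Cfsg.Agent.H892.EP.TM

/-!
# [EA] of S4929 (helper274)

`even_par` : `q` even: the nontrivial constituents of `1_B^Y` have even degree.
-/

set_option autoImplicit false
set_option linter.unusedSectionVars false

namespace Cfsg.Agent.H274.EP

open Cfsg CoxeterSystem Cfsg.Agent.ChevalleyStructure.CoxeterGeom Cfsg.Agent.Tits.Roots Cfsg.Agent.Tits.Core
  Cfsg.Agent.Nodes.Reps Cfsg.Agent.Nodes.BNOf Cfsg.Agent.Omega.EH3.Kf.Lev Cfsg.Agent.Nodes.StabComb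
  Cfsg.Agent.Nodes.LeviDec Cfsg.Agent.Nodes.Bruhat Cfsg.Agent.H892.EP
  Cfsg.Agent.Nodes.RGDLib Cfsg.Agent.H969.TT.Count Cfsg.Agent.H969.TT.Principal Cfsg.Agent.Characters.Core

universe u

variable {I W : Type*} {Y : Type u} [Fintype I] [DecidableEq I] [Group W] [Group Y] [Finite Y] {M : CoxeterMatrix I}
  {cs : CoxeterSystem M W} {A : I → I → ℤ} {h : IsCartan M A} {T : Subgroup Y} {n : I → Y}
  {X : (I → ℤ) → Subgroup Y}

/-- a character of order 2 of `U` supported at the node `i` -/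
theorem exists_order_two [Finite W] (R : RGD cs h 2 T n X) (hC : CommGen cs h X) (i : I) :
    ∃ ε : ↥(RGD.Sup X (RGD.Pos cs h)) →* ℂˣ, ε * ε = 1 ∧ ε ≠ 1 ∧
      ∀ j, j ≠ i → ∀ u : ↥(RGD.Sup X (RGD.Pos cs h)), (u : Y) ∈ X (sr j) → ε u = 1 := by
  classical
  have : Fact (Nat.Prime 2) := ⟨Nat.prime_two⟩
  set U := RGD.Sup X (RGD.Pos cs h) with hU
  have h1 := card_avoid R hC (Finset.univ.erase i)
  have h2 : (Finset.univ.erase i : Finset I) ≠ Finset.univ := fun he => by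
    have := Finset.mem_univ i
    rw [← he] at this
    exact Finset.notMem_erase i _ this
  rw [if_neg h2, sub_zero] at h1
  have h3 : 2 ∣ Nat.card {φ : Ch ↥(RGD.Sup X (RGD.Pos cs h)) 2 // Disjoint (Finset.univ.erase i) (supp cs h X φ)} := by
    exact_mod_cast h1
  have hs1 : supp cs h X (1 : Ch ↥(RGD.Sup X (RGD.Pos cs h)) 2) = ∅ := by
    rw [Finset.eq_empty_iff_forall_notMem]
    intro j hj
    obtain ⟨u, -, hu⟩ := mem_supp.1 hj
    exact hu rfl
  obtain ⟨φ, hφ, hne⟩ : ∃ φ : Ch ↥(RGD.Sup X (RGD.Pos cs h)) 2, Disjoint (Finset.univ.erase i) (supp cs h X φ) ∧ φ ≠ 1 := by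
    by_contra hcon
    push Not at hcon
    have h4 : Nat.card {φ : Ch ↥(RGD.Sup X (RGD.Pos cs h)) 2 // Disjoint (Finset.univ.erase i) (supp cs h X φ)} = 1 := by
      rw [Nat.card_eq_one_iff_unique]
      refine ⟨⟨fun a b => Subtype.ext ((hcon _ a.2).trans (hcon _ b.2).symm)⟩, ⟨⟨1, ?_⟩⟩⟩
      rw [hs1]
      exact Finset.disjoint_empty_right _
    rw [h4] at h3
    exact absurd h3 (by decide)
  refine ⟨(emb 2).comp φ, ?_, ?_, ?_⟩
  · ext u
    rw [MonoidHom.mul_apply, MonoidHom.comp_apply, ← map_mul, ← pow_two]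
    have h5 := DFunLike.congr_fun (pow_eq_one' φ) u
    rw [MonoidHom.pow_apply] at h5
    rw [h5, MonoidHom.one_apply, map_one, MonoidHom.one_apply]
  · intro he
    apply hne
    ext u
    have h5 := DFunLike.congr_fun he u
    rw [MonoidHom.comp_apply, MonoidHom.one_apply, map_eq_one_iff _ (emb_injective 2)] at h5
    rw [h5, MonoidHom.one_apply]
  · intro j hj u hu
    rw [MonoidHom.comp_apply, map_eq_one_iff _ (emb_injective 2)]
    by_contra hcon
    exact Finset.disjoint_left.1 hφ (Finset.mem_erase.2 ⟨hj, Finset.mem_univ j⟩) (mem_supp.2 ⟨u, hu, hcon⟩)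

/-- the number of the linear characters whose support contains `K ≠ I` is even -/
theorem even_contain [Finite W] (R : RGD cs h 2 T n X) (hC : CommGen cs h X)
    [Fintype (↥(RGD.Sup X (RGD.Pos cs h)) →* ℂˣ)] {K : Finset I} (hK : K ≠ Finset.univ)
    [DecidablePred fun μ : ↥(RGD.Sup X (RGD.Pos cs h)) →* ℂˣ => K ⊆ sp cs h X μ] :
    2 ∣ (Finset.univ.filter fun μ : ↥(RGD.Sup X (RGD.Pos cs h)) →* ℂˣ => K ⊆ sp cs h X μ).card := by
  obtain ⟨i, hi⟩ : ∃ i, i ∉ K := by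
    by_contra hcon
    push Not at hcon
    exact hK (Finset.eq_univ_iff_forall.2 hcon)
  obtain ⟨ε, hε, hne, hj⟩ := exists_order_two R hC i
  have key : ∀ μ : ↥(RGD.Sup X (RGD.Pos cs h)) →* ℂˣ, K ⊆ sp cs h X μ → K ⊆ sp cs h X (μ * ε) := by
    intro μ hμ j hjK
    obtain ⟨u, hu, hu1⟩ := mem_sp.1 (hμ hjK)
    refine mem_sp.2 ⟨u, hu, ?_⟩
    rw [MonoidHom.mul_apply, hj j (fun e => hi (e ▸ hjK)) u hu, mul_one]
    exact hu1
  have h1 : ∑ μ ∈ (Finset.univ.filter fun μ : ↥(RGD.Sup X (RGD.Pos cs h)) →* ℂˣ => K ⊆ sp cs h X μ), (1 : ZMod 2) = 0 := by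
    refine Finset.sum_involution (fun μ _ => μ * ε) (fun _ _ => by decide) (fun μ _ _ he => hne ?_) (fun μ hμ => ?_) (fun μ _ => ?_)
    · ext u
      have h5 := DFunLike.congr_fun he u
      rw [MonoidHom.mul_apply, mul_eq_left] at h5
      rw [h5, MonoidHom.one_apply]
    · rw [Finset.mem_filter] at hμ ⊢
      exact ⟨Finset.mem_univ _, key μ hμ.2⟩
    · ext u
      have h5 := DFunLike.congr_fun hε u
      rw [MonoidHom.mul_apply, MonoidHom.one_apply] at h5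
      rw [MonoidHom.mul_apply, MonoidHom.mul_apply, mul_assoc, h5, mul_one]
  rw [Finset.sum_const, nsmul_eq_mul, mul_one, ZMod.natCast_eq_zero_iff] at h1
  exact h1

/-- **[EA]** -/
theorem even_par [Finite W] (R : RGD cs h 2 T n X) (hG : Cfsg.Agent.Nodes.RGDLib.G1 cs h X = ⊤) (hC : CommGen cs h X)
    (χ : IrrCharacter Y) (hχ : χ ≠ oneChar Y)
    (hB : ∑ᶠ b : ↥(RGD.B cs h T X), (χ : Y → ℂ) b ≠ 0) : 2 ∣ charDegree (χ : Y → ℂ) := by
  classical
  have : Fact (Nat.Prime 2) := ⟨Nat.prime_two⟩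
  have hG' : GG cs h T X = ⊤ := by
    rw [eq_top_iff, ← hG]
    exact le_sup_right
  have : Fintype Y := Fintype.ofFinite Y
  have : Fintype ↥(RGD.Sup X (RGD.Pos cs h)) := Fintype.ofFinite _
  have : Fintype (↥(RGD.Sup X (RGD.Pos cs h)) →* ℂˣ) := Fintype.ofFinite _
  have hU : IsPGroup 2 ↥(RGD.Sup X (RGD.Pos cs h)) := R.isPGroup_Upos
  obtain ⟨z, hz⟩ := parity_lm hU (isCharacter_comp (RGD.Sup X (RGD.Pos cs h)).subtype (isIrr_isCharacter χ.2))
  have hnat : ∀ K : Finset I, ∃ c : ℕ, fd (PK cs h T n X K) (χ : Y → ℂ) = c := fun K =>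
    fd_isNat _ (isIrr_isCharacter χ.2)
  choose e he using hnat
  have htop : e Finset.univ = 0 := by
    have h1 := he Finset.univ
    rw [PK_univ R hG'] at h1
    have h2 : fd (⊤ : Subgroup Y) (χ : Y → ℂ) = classInner (χ : Y → ℂ) 1 := by
      rw [fd_eq, classInner_def, Subgroup.card_top]
      congr 1
      refine Fintype.sum_equiv Subgroup.topEquiv.toEquiv _ _ fun x => ?_
      simp
    rw [h2, classInner_irr_ne χ.2 isIrr_one (fun h3 => hχ (Subtype.ext h3))] at h1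
    exact_mod_cast h1.symm
  have h1 : ∑ μ : ↥(RGD.Sup X (RGD.Pos cs h)) →* ℂˣ, lm μ (fun u : ↥(RGD.Sup X (RGD.Pos cs h)) => (χ : Y → ℂ) u) =
      ∑ K ∈ (Finset.univ : Finset I).powerset, (-1 : ℂ) ^ K.card * (e K : ℂ) *
        ((Finset.univ.filter fun μ : ↥(RGD.Sup X (RGD.Pos cs h)) →* ℂˣ => K ⊆ sp cs h X μ).card : ℂ) := by
    rw [Finset.sum_congr rfl fun μ _ => lm_eq_sum R hG' hC χ hB μ]
    have h4 : ∀ μ : ↥(RGD.Sup X (RGD.Pos cs h)) →* ℂˣ, ∑ K ∈ (sp cs h X μ).powerset, (-1 : ℂ) ^ K.card * fd (PK cs h T n X K) (χ : Y → ℂ) =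
        ∑ K ∈ (Finset.univ : Finset I).powerset, if K ⊆ sp cs h X μ then (-1 : ℂ) ^ K.card * (e K : ℂ) else 0 := by
      intro μ
      rw [← Finset.sum_filter]
      refine Finset.sum_congr ?_ fun K _ => by rw [he]
      ext K
      simp
    rw [Finset.sum_congr rfl fun μ _ => h4 μ, Finset.sum_comm]
    refine Finset.sum_congr rfl fun K _ => ?_
    rw [← Finset.sum_filter, Finset.sum_const, nsmul_eq_mul, mul_comm]
  have h2 : ∀ K : Finset I, ∃ w : ℤ, (-1 : ℂ) ^ K.card * (e K : ℂ) *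
        ((Finset.univ.filter fun μ : ↥(RGD.Sup X (RGD.Pos cs h)) →* ℂˣ => K ⊆ sp cs h X μ).card : ℂ) = 2 * w := by
    intro K
    by_cases hK : K = Finset.univ
    · refine ⟨0, ?_⟩
      rw [hK, htop]
      simp
    · obtain ⟨w, hw⟩ := even_contain R hC hK
      refine ⟨(-1) ^ K.card * (e K : ℤ) * w, ?_⟩
      rw [hw]
      push_cast
      ring
  choose w hw using h2
  have h3 : (χ : Y → ℂ) 1 = 2 * ((z + ∑ K ∈ (Finset.univ : Finset I).powerset, w K : ℤ) : ℂ) := by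
    have h4 : (χ : Y → ℂ) 1 = ((χ : Y → ℂ) ∘ (RGD.Sup X (RGD.Pos cs h)).subtype) 1 := by simp
    have h5 : ∑ μ : ↥(RGD.Sup X (RGD.Pos cs h)) →* ℂˣ, lm μ ((χ : Y → ℂ) ∘ (RGD.Sup X (RGD.Pos cs h)).subtype) =
        ∑ K ∈ (Finset.univ : Finset I).powerset, 2 * (w K : ℂ) := by
      rw [← Finset.sum_congr rfl fun K _ => hw K, ← h1]
      rfl
    rw [h4, eq_add_of_sub_eq hz, h5]
    push_cast
    rw [← Finset.mul_sum]
    ring
  rw [Cfsg.Agent.Blocks.Basic.irr_one_eq_charDegree χ.2] at h3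
  have h4 : (charDegree (χ : Y → ℂ) : ℤ) = 2 * (z + ∑ K ∈ (Finset.univ : Finset I).powerset, w K) := by exact_mod_cast h3
  exact_mod_cast Dvd.intro _ h4.symm

end Cfsg.Agent.H274.EP
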