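import Cfsg.Agent.H274.EP.Lin
import Cfsg.Agent.H969.TT.TopAbs
import Cfsg.Prelude.Def_ParabolicCharacters

/-!
# The Harish-Chandra inequality (helper274, S4929)

* `fd P f` : the dimension of the `P`-fixed vectors; `av V f` : the character of `L ≤ N(V)` on the `V`-fixed vectors;
* `le_lm` : the Harish-Chandra inequality.
-/

set_option autoImplicit false
set_option linter.unusedSectionVars false

namespace Cfsg.Agent.H274.EP

open Cfsg Cfsg.Agent.Characters.Core Cfsg.Agent.H969.TT.TopAbs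
open scoped ComplexConjugate

universe u

section Fd

variable {Y : Type u} [Group Y]

/-- the dimension of the `P`-fixed vectors -/
noncomputable def fd (P : Subgroup Y) (f : Y → ℂ) : ℂ := (Nat.card P : ℂ)⁻¹ * ∑ᶠ x : P, f x

theorem fd_eq (P : Subgroup Y) [Fintype P] (f : Y → ℂ) : fd P f = (Nat.card P : ℂ)⁻¹ * ∑ x : P, f x := by
  rw [fd, finsum_eq_sum_of_fintype]

theorem fd_sum [Finite Y] (P : Subgroup Y) {ι : Type*} (s : Finset ι) (m : ι → ℂ) (f : ι → Y → ℂ) :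
    fd P (fun u => ∑ i ∈ s, m i * f i u) = ∑ i ∈ s, m i * fd P (f i) := by
  have : Fintype P := Fintype.ofFinite _
  simp only [fd_eq, Finset.mul_sum]
  rw [Finset.sum_comm]
  refine Finset.sum_congr rfl fun i _ => Finset.sum_congr rfl fun u _ => ?_
  ring

/-- `⟨f, 1_P^Y⟩` -/
theorem classInner_fpc' [Fintype Y] (P : Subgroup Y) {f : Y → ℂ} (hf : IsClassFunction Y f) :
    classInner f (fixedPointCharacter P) = fd P f := by
  classical
  have : Fintype P := Fintype.ofFinite _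
  have : Fintype (Y ⧸ P) := Fintype.ofFinite _
  rw [classInner_def, fd_eq]
  have h1 : ∀ y : Y, f y * conj (fixedPointCharacter P y) = f y * (Nat.card (MulAction.fixedBy (Y ⧸ P) y) : ℂ) := by
    intro y
    rw [fixedPointCharacter, Complex.conj_natCast]
  rw [Finset.sum_congr rfl fun y _ => h1 y, frob P hf, ← P.card_mul_index]
  have hP : (Nat.card P : ℂ) ≠ 0 := card_ne_zero_complex
  have hi : (P.index : ℂ) ≠ 0 := by exact_mod_cast Subgroup.index_ne_zero_of_finite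
  push_cast
  field_simp

/-- the dimension of the `P`-fixed vectors is a natural number -/
theorem fd_isNat [Finite Y] (P : Subgroup Y) {f : Y → ℂ} (hf : IsCharacter Y f) : ∃ c : ℕ, fd P f = c := by
  have : Fintype P := Fintype.ofFinite _
  obtain ⟨c, hc⟩ := classInner_isNat (isCharacter_comp P.subtype hf) (isCharacter_one (G := P))
  refine ⟨c, ?_⟩
  rw [← hc, classInner_def, fd_eq]
  simp

end Fd

section Av

variable {Y : Type u} [Group Y] [Finite Y] (V : Subgroup Y)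

/-- the average over `V` -/
noncomputable def av (L : Subgroup Y) (f : Y → ℂ) (l : L) : ℂ := (Nat.card V : ℂ)⁻¹ * ∑ᶠ v : V, f (v * l)

theorem av_eq [Fintype V] (L : Subgroup Y) (f : Y → ℂ) (l : L) : av V L f l = (Nat.card V : ℂ)⁻¹ * ∑ v : V, f (v * l) := by
  rw [av, finsum_eq_sum_of_fintype]

theorem isCharacter_av {L : Subgroup Y} (hL : ∀ k ∈ L, ∀ v ∈ V, k * v * k⁻¹ ∈ V) {f : Y → ℂ} (hf : IsCharacter Y f) :
    IsCharacter L (av V L f) := by
  set N : Subgroup Y := Subgroup.normalizer (V : Set Y) with hN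
  have hYN : V ≤ N := Subgroup.le_normalizer
  have hLN : L ≤ N := by
    intro k hk
    rw [Subgroup.mem_normalizer_iff]
    intro v
    refine ⟨hL k hk v, fun hv => ?_⟩
    have h1 := hL k⁻¹ (inv_mem hk) _ hv
    have e : k⁻¹ * (k * v * k⁻¹) * k⁻¹⁻¹ = v := by group
    rwa [e] at h1
  have : (V.subgroupOf N).Normal := Subgroup.normal_in_normalizer
  have : Fintype V := Fintype.ofFinite _
  have : Fintype (V.subgroupOf N) := Fintype.ofFinite _
  have h1 : IsCharacter N (fun x : N => f x) := isCharacter_comp N.subtype hf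
  have h2 := CharactersDeep.CosetAverage.isCharacter_cosetAverage (V.subgroupOf N) h1
  have hc : Nat.card (V.subgroupOf N) = Nat.card V :=
    Nat.card_congr (Subgroup.subgroupOfEquivOfLe hYN).toEquiv
  have h3 := isCharacter_comp (Subgroup.inclusion hLN) h2
  have h4 : ((fun g : N => (Nat.card (V.subgroupOf N) : ℂ)⁻¹ *
      ∑ y : V.subgroupOf N, f (((y : N) * g : N) : Y)) ∘ (Subgroup.inclusion hLN)) = av V L f := by
    funext g
    rw [Function.comp_apply, av_eq, hc]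
    congr 1
    refine Fintype.sum_equiv (Subgroup.subgroupOfEquivOfLe hYN).toEquiv _ _ fun y => ?_
    rfl
  rw [← h4]
  exact h3

variable {V}

/-- sums over `H = H' V` -/
theorem sum_prod {L : Subgroup Y} (hLV : ∀ x ∈ L, x ∈ V → x = 1) {H' : Subgroup L} {H : Subgroup Y} [Fintype H] [Fintype H']
    [Fintype V] (hH : ∀ g, g ∈ H ↔ ∃ l ∈ H', ∃ v ∈ V, g = (l : Y) * v) (F : H → ℂ) :
    ∑ g : H, F g = ∑ l : H', ∑ v : V, F ⟨((l : L) : Y) * v, (hH _).2 ⟨l, l.2, v, v.2, rfl⟩⟩ := by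
  rw [← Fintype.sum_prod_type']
  symm
  refine Fintype.sum_bijective (fun x : H' × V => (⟨((x.1 : L) : Y) * x.2, (hH _).2 ⟨x.1, x.1.2, x.2, x.2.2, rfl⟩⟩ : H)) ⟨?_, ?_⟩
    _ _ fun x => rfl
  · rintro ⟨l, v⟩ ⟨l', v'⟩ h
    have h1 : ((l : L) : Y) * v = ((l' : L) : Y) * v' := congrArg Subtype.val h
    have h2 : ((l' : L) : Y)⁻¹ * ((l : L) : Y) = v' * (v : Y)⁻¹ := by
      rw [inv_mul_eq_iff_eq_mul, ← mul_assoc, ← h1, mul_inv_cancel_right]
    have h3 : ((l' : L) : Y)⁻¹ * ((l : L) : Y) = 1 := by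
      refine hLV _ (mul_mem (inv_mem (l' : L).2) (l : L).2) ?_
      rw [h2]
      exact mul_mem v'.2 (inv_mem v.2)
    have h4 : ((l : L) : Y) = ((l' : L) : Y) := (inv_mul_eq_one.1 h3).symm
    have h5 : (v : Y) = v' := by
      rw [h4] at h1
      exact mul_left_cancel h1
    exact Prod.ext (Subtype.ext (Subtype.ext h4)) (Subtype.ext h5)
  · rintro ⟨g, hg⟩
    obtain ⟨l, hl, v, hv, e⟩ := (hH g).1 hg
    exact ⟨(⟨l, hl⟩, ⟨v, hv⟩), Subtype.ext e.symm⟩

theorem card_prod {L : Subgroup Y} (hLV : ∀ x ∈ L, x ∈ V → x = 1) {H' : Subgroup L} {H : Subgroup Y}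
    (hH : ∀ g, g ∈ H ↔ ∃ l ∈ H', ∃ v ∈ V, g = (l : Y) * v) : (Nat.card H : ℂ) = Nat.card H' * Nat.card V := by
  have : Fintype H := Fintype.ofFinite _
  have : Fintype H' := Fintype.ofFinite _
  have : Fintype V := Fintype.ofFinite _
  have h1 := sum_prod hLV hH (fun _ => (1 : ℂ))
  simp only [Finset.sum_const, Finset.card_univ, nsmul_eq_mul, mul_one, ← Nat.card_eq_fintype_card] at h1
  exact h1

/-- `av` and `fd` -/
theorem fd_av {L : Subgroup Y} (hLV : ∀ x ∈ L, x ∈ V → x = 1) {H' : Subgroup L} {H : Subgroup Y}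
    (hH : ∀ g, g ∈ H ↔ ∃ l ∈ H', ∃ v ∈ V, g = (l : Y) * v) {f : Y → ℂ} (hf : IsClassFunction Y f) :
    fd H' (av V L f) = fd H f := by
  have : Fintype H := Fintype.ofFinite _
  have : Fintype H' := Fintype.ofFinite _
  have : Fintype V := Fintype.ofFinite _
  rw [fd_eq, fd_eq, card_prod hLV hH, sum_prod hLV hH (fun x => f x), mul_inv, mul_assoc]
  congr 1
  rw [Finset.mul_sum]
  refine Finset.sum_congr rfl fun l _ => ?_
  rw [av_eq]
  congr 1
  refine Finset.sum_congr rfl fun v _ => ?_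
  rw [← hf ((l : L) * v : Y) v]
  congr 1
  group

/-- `av` and `lm` -/
theorem lm_av {L : Subgroup Y} (hLV : ∀ x ∈ L, x ∈ V → x = 1) {U' : Subgroup L} {U : Subgroup Y} [Fintype U'] [Fintype U]
    (hU : ∀ g, g ∈ U ↔ ∃ l ∈ U', ∃ v ∈ V, g = (l : Y) * v) {f : Y → ℂ} (hf : IsClassFunction Y f)
    (μ : U →* ℂˣ) (μ' : U' →* ℂˣ) (hμ : ∀ u : U, (u : Y) ∈ V → μ u = 1)
    (hμ' : ∀ (u' : U') (u : U), ((u' : L) : Y) = u → μ' u' = μ u) :
    lm μ (fun u : U => f u) = lm μ' (fun u : U' => av V L f u) := by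
  have : Fintype V := Fintype.ofFinite _
  rw [lm, lm, card_prod hLV hU, sum_prod hLV hU, mul_inv, mul_assoc]
  congr 1
  rw [Finset.mul_sum]
  refine Finset.sum_congr rfl fun l _ => ?_
  rw [av_eq, mul_left_comm]
  congr 1
  rw [Finset.mul_sum]
  refine Finset.sum_congr rfl fun v _ => ?_
  have hlU : ((l : L) : Y) ∈ U := (hU _).2 ⟨l, l.2, 1, one_mem _, (mul_one _).symm⟩
  have hvU : (v : Y) ∈ U := (hU _).2 ⟨1, one_mem _, v, v.2, (one_mul _).symm⟩
  have e1 : (⟨((l : L) : Y) * v, (hU _).2 ⟨l, l.2, v, v.2, rfl⟩⟩ : U)⁻¹ = (⟨v, hvU⟩ : U)⁻¹ * (⟨(l : L), hlU⟩ : U)⁻¹ := by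
    rw [← mul_inv_rev]
    rfl
  rw [e1, map_mul, map_inv μ ⟨(v : Y), hvU⟩, hμ ⟨v, hvU⟩ v.2, inv_one, one_mul]
  have e2 : μ' l⁻¹ = μ (⟨(l : L), hlU⟩ : U)⁻¹ := by
    rw [map_inv, map_inv, hμ' l ⟨(l : L), hlU⟩ rfl]
  rw [e2]
  congr 1
  have h2 := hf ((l : L) * v : Y) v
  rw [← h2]
  congr 1
  group

end Av

/-- **The Harish-Chandra inequality.** -/
theorem le_lm {Y : Type u} [Group Y] [Finite Y] {V L : Subgroup Y} (hL : ∀ k ∈ L, ∀ v ∈ V, k * v * k⁻¹ ∈ V)
    (hLV : ∀ x ∈ L, x ∈ V → x = 1) {U' : Subgroup L} {U : Subgroup Y} [Fintype U'] [Fintype U]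
    (hU : ∀ g, g ∈ U ↔ ∃ l ∈ U', ∃ v ∈ V, g = (l : Y) * v)
    {J : Type*} (s : Finset J) (c : J → ℝ) (P' : J → Subgroup L) (P : J → Subgroup Y)
    (hP : ∀ j g, g ∈ P j ↔ ∃ l ∈ P' j, ∃ v ∈ V, g = (l : Y) * v)
    (hσ : IsIrrCharacter L (fun g => ∑ j ∈ s, (c j : ℂ) * fixedPointCharacter (P' j) g))
    (μ : U →* ℂˣ) (μ' : U' →* ℂˣ) (hμ : ∀ u : U, (u : Y) ∈ V → μ u = 1)
    (hμ' : ∀ (u' : U') (u : U), ((u' : L) : Y) = u → μ' u' = μ u)
    (hσμ : lm μ' (fun u : U' => ∑ j ∈ s, (c j : ℂ) * fixedPointCharacter (P' j) (u : L)) = 1)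
    {f : Y → ℂ} (hf : IsCharacter Y f) :
    ∃ a b : ℕ, lm μ (fun u : U => f u) = a ∧ ∑ j ∈ s, (c j : ℂ) * fd (P j) f = b ∧ b ≤ a := by
  classical
  have : Fintype L := Fintype.ofFinite _
  let _ : Fintype (IrrCharacter L) := @Fintype.ofFinite _ finite_irr
  have hcl := isCharacter_isClassFunction hf
  have hav := isCharacter_av V hL hf
  obtain ⟨m, hm⟩ := exists_nat_comb hav
  set σ : IrrCharacter L := ⟨_, hσ⟩ with hσd
  -- the multiplicities in `U'`
  have hcex : ∀ θ : IrrCharacter L, ∃ c : ℕ, lm μ' (fun u : U' => (θ : L → ℂ) u) = c := fun θ =>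
    lm_isNat μ' (isCharacter_comp U'.subtype (isIrr_isCharacter θ.2))
  choose d hd using hcex
  have hdσ : d σ = 1 := by
    have := hd σ
    rw [hσd] at this
    simp only at this
    rw [hσμ] at this
    exact_mod_cast this.symm
  refine ⟨∑ θ, m θ * d θ, m σ, ?_, ?_, ?_⟩
  · rw [lm_av hLV hU hcl μ μ' hμ hμ']
    have e1 : (fun u : U' => av V L f u) = fun u : U' => ∑ θ : IrrCharacter L, (m θ : ℂ) * (θ : L → ℂ) u := by
      funext u
      rw [hm, Finset.sum_apply]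
      refine Finset.sum_congr rfl fun θ _ => ?_
      rw [Pi.smul_apply, nsmul_eq_mul]
    rw [e1, lm_sum μ' Finset.univ (fun θ => (m θ : ℂ)) fun (θ : IrrCharacter L) (u : U') => (θ : L → ℂ) u]
    push_cast
    exact Finset.sum_congr rfl fun θ _ => by rw [hd]
  · have h1 := classInner_sum_nsmul_irr m σ
    rw [← hm] at h1
    rw [← h1]
    have e1 : ((σ : IrrCharacter L) : L → ℂ) = ∑ j ∈ s, (c j : ℂ) • fixedPointCharacter (P' j) := by
      funext g
      rw [Finset.sum_apply]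
      rfl
    rw [e1, classInner_sum_right]
    refine Finset.sum_congr rfl fun j _ => ?_
    rw [classInner_smul_right, classInner_fpc' _ (isCharacter_isClassFunction hav), fd_av hLV (hP j) hcl, Complex.conj_ofReal]
  · have h1 : m σ * d σ ≤ ∑ θ, m θ * d θ :=
      Finset.single_le_sum (f := fun θ => m θ * d θ) (fun _ _ => Nat.zero_le _) (Finset.mem_univ σ)
    rwa [hdσ, mul_one] at h1

end Cfsg.Agent.H274.EP
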