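import Mathlib
import Cfsg.Agent.Characters.Core
import Cfsg.Agent.Characters.Linear
import Cfsg.Agent.H596.Degree
import Cfsg.Agent.CharactersDeep.CosetAverage

/-!
# Multiplicities of linear characters, averages (helper274, S4929)

* `lm μ f` : the multiplicity of the linear character `μ` of `U` in `f`;
* `parity_lm` : `U` a 2-group: `f 1 ≡ ∑ μ, lm μ f` modulo 2;
* `fd P f` : the dimension of the `P`-fixed vectors; `av V f` : the character of `L ≤ N(V)` on the `V`-fixed vectors;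
* `le_lm` : the Harish-Chandra inequality.
-/

set_option autoImplicit false
set_option linter.unusedSectionVars false

namespace Cfsg.Agent.H274.EP

open Cfsg Cfsg.Agent.Characters.Core
open scoped ComplexConjugate

universe u

section Lin

variable {U : Type u} [Group U] [Fintype U]

/-- the multiplicity of the linear character `μ` in `f` -/
noncomputable def lm (μ : U →* ℂˣ) (f : U → ℂ) : ℂ := (Nat.card U : ℂ)⁻¹ * ∑ u : U, ((μ u⁻¹ : ℂˣ) : ℂ) * f u

theorem lm_eq (μ : U →* ℂˣ) (f : U → ℂ) : lm μ f = classInner f (fun u => ((μ u : ℂˣ) : ℂ)) := by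
  have h2 : IsCharacter U (fun u : U => ((μ u : ℂˣ) : ℂ)) :=
    isIrr_isCharacter (Cfsg.Agent.Characters.Linear.isIrrCharacter_hom μ)
  rw [classInner_def, lm]
  congr 1
  refine Finset.sum_congr rfl fun u _ => ?_
  rw [← isCharacter_apply_inv h2 u, mul_comm]

theorem lm_isNat (μ : U →* ℂˣ) {f : U → ℂ} (hf : IsCharacter U f) : ∃ c : ℕ, lm μ f = c := by
  rw [lm_eq]
  exact classInner_isNat hf (isIrr_isCharacter (Cfsg.Agent.Characters.Linear.isIrrCharacter_hom μ))

theorem lm_sum (μ : U →* ℂˣ) {ι : Type*} (s : Finset ι) (m : ι → ℂ) (f : ι → U → ℂ) :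
    lm μ (fun u => ∑ i ∈ s, m i * f i u) = ∑ i ∈ s, m i * lm μ (f i) := by
  simp only [lm, Finset.mul_sum]
  rw [Finset.sum_comm]
  refine Finset.sum_congr rfl fun i _ => Finset.sum_congr rfl fun u _ => ?_
  ring

instance finite_lin : Finite (U →* ℂˣ) := by
  have : Finite (IrrCharacter U) := finite_irr
  exact Finite.of_equiv _ (Cfsg.Agent.Characters.Linear.linearEquiv U).symm

theorem sum_lm_irr [Fintype (U →* ℂˣ)] (θ : IrrCharacter U) :
    ∑ μ : U →* ℂˣ, lm μ (θ : U → ℂ) = if (θ : U → ℂ) 1 = 1 then 1 else 0 := by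
  classical
  split_ifs with h1
  · obtain ⟨f, hf⟩ := Cfsg.Agent.Characters.Linear.exists_hom_of_isIrrCharacter θ.2 h1
    have key : ∀ μ : U →* ℂˣ, lm μ (θ : U → ℂ) = if μ = f then 1 else 0 := by
      intro μ
      rw [lm_eq]
      split_ifs with h2
      · subst h2
        have e : (θ : U → ℂ) = fun u => ((μ u : ℂˣ) : ℂ) := by funext u; rw [hf]
        rw [← e]
        exact classInner_irr_self θ.2
      · refine classInner_irr_ne θ.2 (Cfsg.Agent.Characters.Linear.isIrrCharacter_hom μ) fun h3 => h2 ?_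
        ext u
        have h4 := congrFun h3 u
        rw [hf] at h4
        exact h4.symm
    rw [Finset.sum_congr rfl fun μ _ => key μ, Finset.sum_ite_eq' Finset.univ f, if_pos (Finset.mem_univ _)]
  · refine Finset.sum_eq_zero fun μ _ => ?_
    rw [lm_eq]
    refine classInner_irr_ne θ.2 (Cfsg.Agent.Characters.Linear.isIrrCharacter_hom μ) fun h3 => h1 ?_
    rw [h3]
    simp

/-- **Parity**: the degree of a character of a 2-group is the number of its linear constituents modulo 2. -/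
theorem parity_lm [Fintype (U →* ℂˣ)] (hU : IsPGroup 2 U) {f : U → ℂ} (hf : IsCharacter U f) :
    ∃ z : ℤ, f 1 - ∑ μ : U →* ℂˣ, lm μ f = 2 * z := by
  classical
  let _ : Fintype (IrrCharacter U) := @Fintype.ofFinite _ finite_irr
  obtain ⟨m, hm⟩ := exists_nat_comb hf
  have hz : ∀ θ : IrrCharacter U, ∃ z : ℤ, (θ : U → ℂ) 1 - (if (θ : U → ℂ) 1 = 1 then (1 : ℂ) else 0) = 2 * z := by
    intro θ
    have h1 := Cfsg.Agent.H596.charDegree_dvd_card θ.2
    obtain ⟨k, hk⟩ := IsPGroup.iff_card.1 hU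
    rw [hk] at h1
    obtain ⟨j, -, hj⟩ := (Nat.dvd_prime_pow Nat.prime_two).1 h1
    have h2 : (θ : U → ℂ) 1 = ((2 ^ j : ℕ) : ℂ) := by
      rw [Cfsg.Agent.Blocks.Basic.irr_one_eq_charDegree θ.2, hj]
    rcases Nat.eq_zero_or_pos j with rfl | hj0
    · refine ⟨0, ?_⟩
      rw [h2]
      simp
    · obtain ⟨i, rfl⟩ : ∃ i, j = i + 1 := ⟨j - 1, by omega⟩
      refine ⟨2 ^ i, ?_⟩
      have h3 : (θ : U → ℂ) 1 ≠ 1 := by
        rw [h2]
        have h4 : (2 : ℕ) ^ (i + 1) ≠ 1 := by
          have := Nat.one_lt_two_pow (n := i + 1) (by omega)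
          omega
        exact_mod_cast h4
      rw [if_neg h3, h2, sub_zero]
      push_cast
      ring
  choose z hz using hz
  refine ⟨∑ θ, (m θ : ℤ) * z θ, ?_⟩
  have h1 : f = fun u => ∑ θ : IrrCharacter U, (m θ : ℂ) * (θ : U → ℂ) u := by
    rw [hm]
    funext u
    rw [Finset.sum_apply]
    refine Finset.sum_congr rfl fun θ _ => ?_
    rw [Pi.smul_apply, nsmul_eq_mul]
  have h2 : ∑ μ : U →* ℂˣ, lm μ f = ∑ θ : IrrCharacter U, (m θ : ℂ) * (if (θ : U → ℂ) 1 = 1 then (1 : ℂ) else 0) := by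
    rw [h1]
    rw [Finset.sum_congr rfl fun μ _ => lm_sum μ Finset.univ (fun θ => (m θ : ℂ)) fun θ : IrrCharacter U => (θ : U → ℂ)]
    rw [Finset.sum_comm]
    refine Finset.sum_congr rfl fun θ _ => ?_
    rw [← Finset.mul_sum, sum_lm_irr]
  rw [h2, h1]
  simp only
  rw [← Finset.sum_sub_distrib]
  push_cast
  rw [Finset.mul_sum]
  refine Finset.sum_congr rfl fun θ _ => ?_
  rw [← mul_sub, hz]
  ring

end Lin

end Cfsg.Agent.H274.EP
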